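import Cfsg.Prelude.Def_LocalStructure
import Cfsg.Agent.Lib.Coprime.Sylow
import Cfsg.Agent.Lib.Solvable.Basic
import Cfsg.Agent.S3869
import Mathlib

/-! Minimal non-`p`-closed groups `P ⊔ N` with `N` a minimal normal `p'`-subgroup. -/

set_option autoImplicit false

namespace Cfsg.Agent.MinimalNonClosed

open Subgroup

variable {G : Type*} [Group G] [Finite G] {p : ℕ} [Fact p.Prime]

/-- In a `p`-closed subgroup, a `p`-subgroup of index prime to `p` is normalised. -/
theorem le_normalizer_of_isPClosed {R H : Subgroup G} (hRH : R ≤ H) (hR : IsPGroup p R)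
    (hi : ¬ p ∣ R.relIndex H) (hH : Cfsg.IsPClosed p H) : H ≤ normalizer (R : Set G) := by
  have hp : IsPGroup p (R.subgroupOf H) := hR.of_equiv (subgroupOfEquivOfLe hRH).symm
  have := hH (hp.toSylow hi)
  exact normal_subgroupOf_iff_le_normalizer hRH |>.1 this

/-- `G = P N` with `N` minimal normal of order prime to `p`, `P` non-normal, no normal subgroup inside `P`
and all proper subgroups `p`-closed: `|P| = p` and `N` is elementary abelian of order `q ^ e`. -/
theorem exists_structure (N : Subgroup G) [N.Normal] (hN1 : N ≠ ⊥)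
    (hmin : ∀ B : Subgroup G, B.Normal → B ≤ N → B = ⊥ ∨ B = N) (hpN : ¬ p ∣ Nat.card N)
    (P : Sylow p G) (hPN : (P : Subgroup G) ⊔ N = ⊤) (hnc : ¬ (P : Subgroup G).Normal)
    (hsub : ∀ H : Subgroup G, H ≠ ⊤ → Cfsg.IsPClosed p H)
    (hcore : ∀ C : Subgroup G, C.Normal → C ≤ P → C = ⊥) :
    ∃ q : ℕ, q.Prime ∧ q ≠ p ∧ Nat.card G = p * q ^ orderOf (q : ZMod p) ∧
      ∃ A : Subgroup G, A.Normal ∧ Nat.card ↥A = q ^ orderOf (q : ZMod p) ∧
        Cfsg.IsElementaryAbelian q A ∧
        ∀ B : Subgroup G, B.Normal → B ≤ A → B = ⊥ ∨ B = A := by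
  have hp : p.Prime := Fact.out
  obtain ⟨k, hk⟩ := P.isPGroup'.exists_card_eq
  have hcop : ∀ (j : ℕ), (p ^ j).Coprime (Nat.card N) := fun j =>
    (hp.coprime_iff_not_dvd.2 hpN).pow_left j
  have hPn : (P : Subgroup G) ≤ normalizer (N : Set G) := le_normalizer_of_normal
  have hdisj : (P : Subgroup G) ⊓ N = ⊥ := Coprime.disjoint_of_coprime_card (hk ▸ hcop k)
  have hG : Nat.card G = p ^ k * Nat.card N := by
    rw [← hk, ← Coprime.card_sup_of_le_normalizer hPn hdisj, hPN, card_top]
  have hNpos : 0 < Nat.card N := Nat.card_pos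
  -- an invariant Sylow subgroup of `N` generating `G` with `P`
  have hex : ∃ q : ℕ, q.Prime ∧ ∃ Q : Subgroup G, Q ≤ N ∧ IsPGroup q Q ∧
      (P : Subgroup G) ≤ normalizer (Q : Set G) ∧ (P : Subgroup G) ⊔ Q = ⊤ := by
    by_contra hcon
    push Not at hcon
    apply hnc
    rw [← normalizer_eq_top_iff, eq_top_iff, ← hPN]
    refine sup_le le_normalizer ?_
    have hdvd : Nat.card N ∣ Nat.card (N ⊓ normalizer ((P : Subgroup G) : Set G) : Subgroup G) := by
      rw [Nat.dvd_iff_prime_pow_dvd_dvd]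
      intro q j hq hj
      have := Fact.mk hq
      obtain ⟨Q, hQ⟩ := Coprime.exists_invariant_sylow hPn (hk ▸ hcop k)
        (Or.inl (by have := P.isPGroup'.isNilpotent; infer_instance)) q
      set Q' := (Q : Subgroup N).map N.subtype with hQ'
      have hQN : Q' ≤ N := map_subtype_le _
      have hQp : IsPGroup q Q' := Q.isPGroup'.map _
      have hne := hcon q hq Q' hQN hQp hQ
      have hd : (P : Subgroup G) ⊓ Q' = ⊥ := eq_bot_iff.2 ((inf_le_inf_left _ hQN).trans hdisj.le)
      have hle : (P : Subgroup G) ⊔ Q' ≤ normalizer ((P : Subgroup G) : Set G) := by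
        refine le_normalizer_of_isPClosed le_sup_left P.isPGroup' ?_ (hsub _ hne)
        exact fun h => P.not_dvd_index (h.trans
          (Dvd.intro _ (relIndex_mul_index le_sup_left)))
      refine (Nat.dvd_trans ?_ (card_dvd_of_le (le_inf hQN (le_sup_right.trans hle))))
      rw [hQ', Nat.card_congr (equivMapOfInjective (Q : Subgroup N) N.subtype N.subtype_injective).symm.toEquiv]
      exact Q.pow_dvd_card_of_pow_dvd_card hj
    exact inf_eq_left.1 (eq_of_le_of_card_ge inf_le_left (Nat.le_of_dvd Nat.card_pos hdvd))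
  obtain ⟨q, hq, Q, hQN, hQq, hPQ, hPQtop⟩ := hex
  have := Fact.mk hq
  have hQeq : Q = N := by
    refine eq_of_le_of_card_ge hQN ?_
    have hc := Coprime.card_sup_of_le_normalizer hPQ
      (eq_bot_iff.2 ((inf_le_inf_left _ hQN).trans hdisj.le))
    rw [hPQtop, card_top, hG, hk] at hc
    exact (Nat.eq_of_mul_eq_mul_left (pow_pos hp.pos k) hc).le
  subst hQeq
  have hqp : q ≠ p := by
    rintro rfl
    obtain ⟨j, hj⟩ := hQq.exists_card_eq
    refine hpN ?_
    rw [hj]
    refine dvd_pow_self _ fun h0 => hN1 (card_eq_one.1 ?_)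
    rw [hj, h0, pow_zero]
  have hs : Group.IsSolvable Q := by have := hQq.isNilpotent; infer_instance
  have hcomm := Solvable.isMulCommutative_of_minimal hs hN1 hmin
  obtain ⟨r, hr, hrexp, hrQ⟩ := Solvable.exists_prime_of_minimal hN1 hmin
  have hrq : r = q := by
    have := Fact.mk hr
    obtain ⟨i, hi⟩ := hrQ.exists_card_eq
    obtain ⟨j, hj⟩ := hQq.exists_card_eq
    have hi0 : i ≠ 0 := fun h0 => hN1 (card_eq_one.1 (by rw [hi, h0, pow_zero]))
    have h1 : r ∣ q ^ j := hj ▸ hi ▸ dvd_pow_self r hi0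
    exact (Nat.prime_dvd_prime_iff_eq hr hq).1 (hr.dvd_of_dvd_pow h1)
  subst hrq
  have hk0 : k ≠ 0 := by
    intro h0
    refine hnc ?_
    rw [card_eq_one.1 (hk.trans (by rw [h0, pow_zero]))]
    infer_instance
  -- `|P| = p`
  obtain ⟨k', rfl⟩ := Nat.exists_eq_succ_of_ne_zero hk0
  have hk' : k' = 0 := by
    obtain ⟨P₀', hP₀'⟩ := Sylow.exists_subgroup_card_pow_prime p (G := (P : Subgroup G)) (n := k')
      (hk ▸ pow_dvd_pow p k'.le_succ)
    have hn : P₀'.Normal := by
      refine normal_of_index_eq_minFac_card ?_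
      have h1 := P₀'.card_mul_index
      rw [hP₀', hk, pow_succ] at h1
      rw [hk, Nat.Prime.pow_minFac hp k'.succ_ne_zero]
      exact Nat.eq_of_mul_eq_mul_left (pow_pos hp.pos k') h1
    set P₀ := P₀'.map (P : Subgroup G).subtype with hP₀
    have hP₀P : P₀ ≤ P := map_subtype_le _
    have hc : Nat.card P₀ = p ^ k' := by
      rw [← hP₀', hP₀, Nat.card_congr (equivMapOfInjective P₀' (P : Subgroup G).subtype (subtype_injective _)).symm.toEquiv]
    have hd₀ : P₀ ⊓ Q = ⊥ := eq_bot_iff.2 ((inf_le_inf_right _ hP₀P).trans hdisj.le)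
    have hcard := Coprime.card_sup_of_le_normalizer (hP₀P.trans hPn) hd₀
    have hne : P₀ ⊔ Q ≠ ⊤ := by
      intro h
      rw [h, card_top, hG, hc, pow_succ, mul_comm (p ^ k') p, mul_assoc] at hcard
      have hpos : 0 < p ^ k' * Nat.card Q := Nat.mul_pos (pow_pos hp.pos k') hNpos
      have := Nat.mul_lt_mul_of_pos_right hp.one_lt hpos
      omega
    have hle : P₀ ⊔ Q ≤ normalizer (P₀ : Set G) := by
      refine le_normalizer_of_isPClosed le_sup_left (P.isPGroup'.to_le hP₀P) ?_ (hsub _ hne)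
      intro h
      have h1 := relIndex_mul_index (le_sup_left : P₀ ≤ P₀ ⊔ Q)
      have h2 : Nat.card P₀ * P₀.relIndex (P₀ ⊔ Q) = Nat.card (P₀ ⊔ Q : Subgroup G) :=
        (congrArg (· * _) (Nat.card_congr (subgroupOfEquivOfLe (le_sup_left : P₀ ≤ P₀ ⊔ Q)).symm.toEquiv)).trans
          (card_mul_index (P₀.subgroupOf (P₀ ⊔ Q)))
      rw [hcard] at h2
      rw [Nat.eq_of_mul_eq_mul_left Nat.card_pos h2] at h
      exact hpN h
    have hPn₀ : (P : Subgroup G) ≤ normalizer (P₀ : Set G) := by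
      rw [← normal_subgroupOf_iff_le_normalizer hP₀P, hP₀, subgroupOf, comap_map_eq_self_of_injective (subtype_injective _)]
      exact hn
    have : P₀.Normal := by
      rw [← normalizer_eq_top_iff, eq_top_iff, ← hPN]
      exact sup_le hPn₀ (le_sup_right.trans hle)
    have := hcore P₀ this hP₀P
    rw [this, card_bot] at hc
    exact (Nat.pow_eq_one.1 hc.symm).resolve_left hp.ne_one
  subst hk'
  rw [pow_one] at hG
  have hidx : Q.index = p := by
    have h1 := Q.card_mul_index
    rw [hG, mul_comm p] at h1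
    exact Nat.eq_of_mul_eq_mul_left hNpos h1
  have hna : ¬ IsMulCommutative G := fun h =>
    hnc ⟨fun u hu v => by rwa [mul_comm' v u, mul_inv_cancel_right]⟩
  have hel : Cfsg.IsElementaryAbelian r Q := ⟨hcomm, hrexp⟩
  obtain ⟨hcardQ, -⟩ := S3869.result hr hqp hna Q hel hidx hmin
  exact ⟨r, hr, hqp, by rw [hG, hcardQ], Q, inferInstance, hcardQ, hel, hmin⟩

end Cfsg.Agent.MinimalNonClosed
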